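import Mathlib
import Groth.Prelude.Def_W4c4chowquasisplitPn

/-!
An adapted basis of the truncated algebra `QsChow.P n`.
-/

open MvPolynomial QsChow

namespace QsChowLib

theorem eq_top_of_sup_mul {K A : Type*} [CommSemiring K] [CommRing A] [Algebra K A]
    (N : Submodule K A) (a : A) (n : ℕ) (hn : a ^ n = 0) (hstab : ∀ x ∈ N, a * x ∈ N)
    (h : ∀ x : A, ∃ y ∈ N, ∃ z, x = y + a * z) : N = ⊤ := by
  have key : ∀ k : ℕ, ∀ x : A, ∃ y ∈ N, ∃ z, x = y + a ^ k * z := by
    intro k
    induction k with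
    | zero => exact fun x => ⟨0, N.zero_mem, x, by simp⟩
    | succ k ih =>
      intro x
      obtain ⟨y, hy, z, rfl⟩ := ih x
      obtain ⟨y', hy', z', rfl⟩ := h z
      refine ⟨y + a ^ k * y', N.add_mem hy ?_, z', by ring⟩
      clear h
      induction k with
      | zero => simpa using hy'
      | succ k _ =>
        have : ∀ j : ℕ, a ^ j * y' ∈ N := fun j => by
          induction j with
          | zero => simpa using hy'
          | succ j ihj => rw [pow_succ', mul_assoc]; exact hstab _ ihj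
        exact this _
  refine eq_top_iff.mpr fun x _ => ?_
  obtain ⟨y, hy, z, rfl⟩ := key n x
  simpa [hn] using hy

variable (n : ℕ)

/-- The first position. -/
def i0 : Fin (numVars n) := ⟨0, by unfold numVars; omega⟩

/-- The second position. -/
def i1 (hn : 2 ≤ n) : Fin (numVars n) := ⟨1, by unfold numVars; omega⟩

/-- The exponent index set. -/
abbrev Idx : Type := {γ : Fin (numVars n) →₀ ℕ // ∀ i, γ i < bound n i}

instance : Finite (Idx n) :=
  Finite.of_injective (fun γ : Idx n => fun i => (⟨γ.1 i, γ.2 i⟩ : Fin (bound n i)))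
    fun a b h => Subtype.ext (Finsupp.ext fun i => congrArg Fin.val (congrFun h i))

noncomputable instance : Fintype (Idx n) := Fintype.ofFinite _

theorem bound_i0 : bound n (i0 n) = n := by simp [bound, i0]

theorem bound_i1 (hn : 2 ≤ n) : bound n (i1 n hn) = 2 ^ klog n 2 := by simp [bound, i1]

theorem i0_ne_i1 (hn : 2 ≤ n) : i0 n ≠ i1 n hn := by simp [i0, i1, Fin.ext_iff]

theorem le_mul_two_pow_klog (hn : 2 ≤ n) (j : ℕ) (hj : 2 ≤ j) :
    n ≤ (2 * j - 3) * 2 ^ klog n j := by
  have h1 : (2 * n - 1) / (2 * j - 3) < 2 ^ (klog n j + 1) := Nat.lt_pow_succ_log_self (by norm_num) _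
  rw [Nat.div_lt_iff_lt_mul (by omega), pow_succ] at h1
  have h2 : 2 ^ klog n j * 2 * (2 * j - 3) = 2 * ((2 * j - 3) * 2 ^ klog n j) := by ring
  omega

theorem klog_two_pos (hn : 2 ≤ n) : 1 ≤ klog n 2 :=
  Nat.log_pos (by norm_num) (by omega)

theorem le_two_pow_klog_two (hn : 2 ≤ n) : n ≤ 2 ^ klog n 2 := by
  simpa using le_mul_two_pow_klog n hn 2 le_rfl

theorem mk_monomial_eq_zero {γ : Fin (numVars n) →₀ ℕ} {i : Fin (numVars n)}
    (h : bound n i ≤ γ i) : Ideal.Quotient.mk (truncIdeal n) (monomial γ 1) = 0 := by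
  rw [Ideal.Quotient.eq_zero_iff_mem]
  refine Ideal.mem_of_dvd _ (a := (X i : FreeP n) ^ bound n i) ?_ (Ideal.subset_span ⟨i, rfl⟩)
  rw [X_pow_eq_monomial, monomial_dvd_monomial]
  exact ⟨Or.inr (Finsupp.single_le_iff.mpr h), dvd_rfl⟩

/-- The class of a monomial. -/
noncomputable def mon (γ : Fin (numVars n) →₀ ℕ) : P n :=
  Ideal.Quotient.mk (truncIdeal n) (monomial γ 1)

theorem span_mon : Submodule.span (ZMod 2) (Set.range fun γ : Idx n => mon n γ.1) = ⊤ := by
  refine eq_top_iff.mpr ?_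
  rintro x -
  obtain ⟨q, rfl⟩ := Ideal.Quotient.mk_surjective x
  induction q using MvPolynomial.induction_on' with
  | monomial γ a =>
    have : Ideal.Quotient.mk (truncIdeal n) (monomial γ a) = a • mon n γ := by
      rw [mon, ← Ideal.Quotient.mkₐ_eq_mk (ZMod 2), ← map_smul, smul_monomial, smul_eq_mul, mul_one]
    rw [this]
    refine Submodule.smul_mem _ a ?_
    by_cases h : ∀ i, γ i < bound n i
    · exact Submodule.subset_span ⟨⟨γ, h⟩, rfl⟩
    · push Not at h
      obtain ⟨i, hi⟩ := h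
      rw [mon, mk_monomial_eq_zero n hi]
      exact zero_mem _
  | add p q hp hq => rw [map_add]; exact add_mem hp hq

theorem linearIndependent_mon : LinearIndependent (ZMod 2) fun γ : Idx n => mon n γ.1 := by
  classical
  rw [Fintype.linearIndependent_iff]
  intro c hc γ
  have hmem : (∑ δ : Idx n, monomial δ.1 (c δ)) ∈ truncIdeal n := by
    rw [← Ideal.Quotient.eq_zero_iff_mem, map_sum, ← hc]
    refine Finset.sum_congr rfl fun δ _ => ?_
    rw [mon, ← Ideal.Quotient.mkₐ_eq_mk (ZMod 2), ← map_smul, smul_monomial, smul_eq_mul, mul_one]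
  have htr : truncIdeal n = Ideal.span ((fun s => monomial s (1 : ZMod 2)) ''
      Set.range fun i => Finsupp.single i (bound n i)) := by
    rw [truncIdeal, ← Set.range_comp]
    congr 1
    ext1
    simp [X_pow_eq_monomial]
  rw [htr, mem_ideal_span_monomial_image] at hmem
  by_contra hne
  have hsupp : γ.1 ∈ (∑ δ : Idx n, monomial δ.1 (c δ)).support := by
    rw [MvPolynomial.mem_support_iff, coeff_sum, Finset.sum_eq_single γ]
    · simpa using hne
    · intro δ _ hδ
      rw [coeff_monomial, if_neg]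
      exact fun h => hδ (Subtype.ext h)
    · simp
  obtain ⟨_, ⟨i, rfl⟩, hi⟩ := hmem γ.1 hsupp
  exact absurd (Finsupp.single_le_iff.mp hi) (not_le.mpr (γ.2 i))

/-- The monomial basis. -/
noncomputable def monBasis : Module.Basis (Idx n) (ZMod 2) (P n) :=
  Module.Basis.mk (linearIndependent_mon n) (span_mon n).ge

theorem finrank_P : Module.finrank (ZMod 2) (P n) = Fintype.card (Idx n) :=
  Module.finrank_eq_card_basis (monBasis n)

theorem eps_succ (i : Fin (numVars n)) :
    eps n (i.val + 1) = Ideal.Quotient.mk (truncIdeal n) (X i) := by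
  rw [eps, dif_pos ⟨Nat.succ_pos _, i.2⟩]
  rfl

theorem nontrivial_P (hn : 2 ≤ n) : Nontrivial (P n) := by
  have : Idx n := ⟨0, fun i => by
    simp only [Finsupp.coe_zero, Pi.zero_apply, bound]
    split
    · omega
    · exact Nat.two_pow_pos _⟩
  exact ⟨⟨monBasis n this, 0, (monBasis n).ne_zero this⟩⟩

theorem charTwo (hn : 2 ≤ n) : CharP (P n) 2 := by
  haveI := nontrivial_P n hn
  exact charP_of_injective_algebraMap (algebraMap (ZMod 2) (P n)).injective 2

theorem add_self (x : P n) : x + x = 0 := by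
  have h : ((1 : ZMod 2) + 1) • x = 0 := by
    rw [show (1 : ZMod 2) + 1 = 0 from rfl, zero_smul]
  rwa [add_smul, one_smul] at h

theorem eps_one_pow : eps n 1 ^ n = 0 := by
  have h := eps_succ n (i0 n)
  rw [show (i0 n).val + 1 = 1 from rfl] at h
  rw [h, ← map_pow, X_pow_eq_monomial]
  exact mk_monomial_eq_zero n (i := i0 n) (by simp [bound_i0])

/-- Split exponent: half the second one. -/
noncomputable def ev (hn : 2 ≤ n) (γ : Fin (numVars n) →₀ ℕ) : Fin (numVars n) →₀ ℕ :=
  γ.update (i1 n hn) (γ (i1 n hn) / 2)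

/-- The restriction of `phi` to polynomials without `x`. -/
noncomputable def psi0 : FreeP n →ₐ[ZMod 2] P n := aeval fun i => genImage n (some i)

/-- The adapted family. -/
noncomputable def w (hn : 2 ≤ n) (γ : Fin (numVars n) →₀ ℕ) : P n :=
  psi0 n (monomial (ev n hn γ) 1) * eps n 2 ^ (γ (i1 n hn) % 2)

theorem genImage_i0 : genImage n (some (i0 n)) = eps n 1 := by simp [genImage, i0]

theorem genImage_i1 (hn : 2 ≤ n) :
    genImage n (some (i1 n hn)) = eps n 2 ^ 2 + eps n 1 * eps n 2 := by simp [genImage, i1]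

theorem eps_one_mul_w (hn : 2 ≤ n) (γ : Fin (numVars n) →₀ ℕ) :
    eps n 1 * w n hn γ = w n hn (γ + Finsupp.single (i0 n) 1) := by
  have h01 := i0_ne_i1 n hn
  have h : ev n hn (γ + Finsupp.single (i0 n) 1) = Finsupp.single (i0 n) 1 + ev n hn γ := by
    ext i
    simp only [ev, Finsupp.coe_update, Finsupp.coe_add, Pi.add_apply, Function.update_apply]
    by_cases hi : i = i1 n hn
    · subst hi; simp [h01.symm]
    · simp [hi, add_comm]
  rw [w, w, h, monomial_single_add, pow_one, map_mul, psi0, aeval_X, genImage_i0]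
  simp only [Finsupp.coe_add, Pi.add_apply, Finsupp.single_eq_of_ne h01.symm, add_zero, mul_assoc]

theorem w_eq_zero (hn : 2 ≤ n) {γ : Fin (numVars n) →₀ ℕ} (h : n ≤ γ (i0 n)) : w n hn γ = 0 := by
  have h01 := i0_ne_i1 n hn
  have hle : Finsupp.single (i0 n) n ≤ ev n hn γ := by
    rw [Finsupp.single_le_iff, ev, Finsupp.coe_update, Function.update_of_ne h01]
    exact h
  rw [w, ← add_tsub_cancel_of_le hle, monomial_single_add, map_mul, map_pow, psi0, aeval_X,
    genImage_i0, eps_one_pow, zero_mul, zero_mul]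

theorem congr_mon_w (hn : 2 ≤ n) (γ : Fin (numVars n) →₀ ℕ) {T : Type*} [CommRing T]
    (π : P n →+* T) (he : π (eps n 1) = 0) : π (mon n γ) = π (w n hn γ) := by
  set x : Fin (numVars n) → T := fun i => π (Ideal.Quotient.mk (truncIdeal n) (X i)) with hx
  have hg : ∀ i, i ≠ i1 n hn → π (genImage n (some i)) = x i := by
    intro i hi
    have hi' : i.val ≠ 1 := fun h => hi (Fin.ext h)
    simp only [hx, ← eps_succ]
    by_cases h0 : i.val = 0
    · simp [genImage, h0]
    · have : 2 * (i.val + 1) - 4 ≠ 0 := by omega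
      simp [genImage, h0, hi', he, zero_pow this]
  have h2 : π (eps n 2) = x (i1 n hn) := congrArg π (eps_succ n (i1 n hn))
  have hg1 : π (genImage n (some (i1 n hn))) = x (i1 n hn) ^ 2 := by
    simp [genImage_i1, he, h2]
  have hmon : π (mon n γ) = ∏ i, x i ^ γ i := by
    rw [mon, monomial_eq, map_one, one_mul, Finsupp.prod_fintype _ _ (by simp), map_prod, map_prod]
    simp only [map_pow, hx]
  have hw : π (w n hn γ) =
      (∏ i, π (genImage n (some i)) ^ ev n hn γ i) * x (i1 n hn) ^ (γ (i1 n hn) % 2) := by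
    rw [w, psi0, aeval_monomial, map_one, one_mul, Finsupp.prod_fintype _ _ (by simp),
      map_mul, map_prod, map_pow, h2]
    simp only [map_pow]
  rw [hmon, hw, ← Finset.mul_prod_erase Finset.univ _ (Finset.mem_univ (i1 n hn)),
    ← Finset.mul_prod_erase Finset.univ (fun i => π (genImage n (some i)) ^ ev n hn γ i)
      (Finset.mem_univ (i1 n hn)), hg1, ← pow_mul, ev, Finsupp.coe_update, Function.update_self,
    mul_right_comm, ← pow_add, Nat.div_add_mod]
  congr 1
  refine Finset.prod_congr rfl fun i hi => ?_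
  rw [hg i (Finset.ne_of_mem_erase hi), Function.update_of_ne (Finset.ne_of_mem_erase hi)]

theorem span_w (hn : 2 ≤ n) :
    Submodule.span (ZMod 2) (Set.range fun γ : Idx n => w n hn γ.1) = ⊤ := by
  have h01 := i0_ne_i1 n hn
  refine eq_top_of_sup_mul _ (eps n 1) n (eps_one_pow n) (fun x hx => ?_) fun x => ?_
  · refine Submodule.span_induction ?_ (by simp) (fun a b _ _ ha hb => by rw [mul_add]; exact add_mem ha hb)
      (fun c a _ ha => by rw [mul_smul_comm]; exact Submodule.smul_mem _ c ha) hx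
    rintro _ ⟨γ, rfl⟩
    rw [eps_one_mul_w]
    by_cases h : n ≤ (γ.1 + Finsupp.single (i0 n) 1 : Fin (numVars n) →₀ ℕ) (i0 n)
    · rw [w_eq_zero n hn h]; exact zero_mem _
    · refine Submodule.subset_span ⟨⟨γ.1 + Finsupp.single (i0 n) 1, fun i => ?_⟩, rfl⟩
      by_cases hi : i = i0 n
      · subst hi; rw [bound_i0]; omega
      · simpa [Finsupp.single_eq_of_ne hi] using γ.2 i
  · have hx : x ∈ Submodule.span (ZMod 2) (Set.range fun γ : Idx n => mon n γ.1) := by
      rw [span_mon]; trivial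
    refine Submodule.span_induction ?_ ⟨0, zero_mem _, 0, by simp⟩ ?_ ?_ hx
    · rintro _ ⟨γ, rfl⟩
      obtain ⟨z, hz⟩ : eps n 1 ∣ mon n γ.1 - w n hn γ.1 := by
        rw [← Ideal.mem_span_singleton, ← Ideal.Quotient.eq]
        exact congr_mon_w n hn γ.1 (T := P n ⧸ Ideal.span ({eps n 1} : Set (P n)))
          (Ideal.Quotient.mk (Ideal.span ({eps n 1} : Set (P n))))
          (Ideal.Quotient.eq_zero_iff_mem.mpr (Ideal.mem_span_singleton_self (eps n 1)))
      exact ⟨w n hn γ.1, Submodule.subset_span ⟨γ, rfl⟩, z, by rw [← hz, add_sub_cancel]⟩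
    · rintro a b _ _ ⟨y, hy, z, rfl⟩ ⟨y', hy', z', rfl⟩
      exact ⟨y + y', add_mem hy hy', z + z', by ring⟩
    · rintro c a _ ⟨y, hy, z, rfl⟩
      exact ⟨c • y, Submodule.smul_mem _ c hy, c • z, by rw [smul_add, mul_smul_comm]⟩

/-- The adapted basis. -/
noncomputable def wBasis (hn : 2 ≤ n) : Module.Basis (Idx n) (ZMod 2) (P n) :=
  basisOfTopLeSpanOfCardEqFinrank (fun γ : Idx n => w n hn γ.1) (span_w n hn).ge (finrank_P n).symm

@[simp]
theorem wBasis_apply (hn : 2 ≤ n) (γ : Idx n) : wBasis n hn γ = w n hn γ.1 := by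
  simp [wBasis]

/-- The exponents of the fixed part. -/
def fixedSet (hn : 2 ≤ n) : Set (Idx n) :=
  {γ | γ.1 (i1 n hn) % 2 = 0 ∨ γ.1 (i0 n) + 1 = n}

/-- The exponents of the image of `1 + τ`. -/
def evenSet (hn : 2 ≤ n) : Set (Idx n) := {γ | γ.1 (i1 n hn) % 2 = 0}

variable {n}

theorem tau_eps_two (hn : 2 ≤ n) (τ : P n →ₐ[ZMod 2] P n)
    (hτ : ∀ j : ℕ, 2 ≤ j → j ≤ numVars n → τ (eps n j) = eps n j + eps n 1 ^ (2 * j - 3)) :
    τ (eps n 2) = eps n 2 + eps n 1 := by
  have := hτ 2 le_rfl (by unfold numVars; omega)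
  simpa using this

theorem tau_genImage (hn : 2 ≤ n) (τ : P n →ₐ[ZMod 2] P n) (hτ1 : τ (eps n 1) = eps n 1)
    (hτ : ∀ j : ℕ, 2 ≤ j → j ≤ numVars n → τ (eps n j) = eps n j + eps n 1 ^ (2 * j - 3))
    (o : Option (Fin (numVars n))) : τ (genImage n o) = genImage n o := by
  have hY := tau_eps_two hn τ hτ
  cases o with
  | none =>
    simp only [genImage, map_mul, map_pow, hτ1, hY, mul_add, ← pow_succ,
      show n - 1 + 1 = n by omega, eps_one_pow, add_zero]
  | some i =>
    by_cases h0 : i.val = 0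
    · simp [genImage, h0, hτ1]
    by_cases h1 : i.val = 1
    · simp only [genImage, h1, one_ne_zero, if_false, if_true, map_add, map_mul, map_pow, hτ1, hY]
      linear_combination add_self n (eps n 1 * eps n 2) + add_self n (eps n 1 ^ 2)
    · simp only [genImage, h0, h1, if_false, map_add, map_mul, map_pow, hτ1, hY,
        hτ (i.val + 1) (by omega) i.2]
      obtain ⟨e, he⟩ : ∃ e, i.val = e + 2 := ⟨i.val - 2, by omega⟩
      rw [he, show 2 * (e + 2 + 1) - 4 = 2 * e + 2 by omega, show 2 * (e + 2 + 1) - 3 = 2 * e + 3 by omega]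
      linear_combination add_self n (eps n 1 ^ (2 * e + 3))

theorem tau_psi0 (hn : 2 ≤ n) (τ : P n →ₐ[ZMod 2] P n) (hτ1 : τ (eps n 1) = eps n 1)
    (hτ : ∀ j : ℕ, 2 ≤ j → j ≤ numVars n → τ (eps n j) = eps n j + eps n 1 ^ (2 * j - 3))
    (q : FreeP n) : τ (psi0 n q) = psi0 n q := by
  have : τ.comp (psi0 n) = psi0 n := MvPolynomial.algHom_ext fun i => by
    simp [psi0, tau_genImage hn τ hτ1 hτ]
  exact AlgHom.congr_fun this q

theorem add_tau_w (hn : 2 ≤ n) (τ : P n →ₐ[ZMod 2] P n) (hτ1 : τ (eps n 1) = eps n 1)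
    (hτ : ∀ j : ℕ, 2 ≤ j → j ≤ numVars n → τ (eps n j) = eps n j + eps n 1 ^ (2 * j - 3))
    (γ : Fin (numVars n) →₀ ℕ) :
    w n hn γ + τ (w n hn γ) = if γ (i1 n hn) % 2 = 0 then 0
      else eps n 1 * psi0 n (monomial (ev n hn γ) 1) := by
  rw [w, map_mul, map_pow, tau_psi0 hn τ hτ1 hτ, tau_eps_two hn τ hτ]
  rcases Nat.mod_two_eq_zero_or_one (γ (i1 n hn)) with h | h <;> rw [h]
  · simp [add_self]
  · rw [if_neg one_ne_zero]
    linear_combination add_self n (psi0 n (monomial (ev n hn γ) 1) * eps n 2)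

theorem w_of_even (hn : 2 ≤ n) (γ : Fin (numVars n) →₀ ℕ) (h : γ (i1 n hn) % 2 = 0) :
    w n hn γ = psi0 n (monomial (ev n hn γ) 1) := by
  rw [w, h, pow_zero, mul_one]

/-- The shift `γ ↦ γ + e₀ - e₁`. -/
noncomputable def shift (hn : 2 ≤ n) (γ : Fin (numVars n) →₀ ℕ) : Fin (numVars n) →₀ ℕ :=
  γ.update (i1 n hn) (γ (i1 n hn) - 1) + Finsupp.single (i0 n) 1

theorem add_tau_w_odd (hn : 2 ≤ n) (τ : P n →ₐ[ZMod 2] P n) (hτ1 : τ (eps n 1) = eps n 1)
    (hτ : ∀ j : ℕ, 2 ≤ j → j ≤ numVars n → τ (eps n j) = eps n j + eps n 1 ^ (2 * j - 3))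
    (γ : Fin (numVars n) →₀ ℕ) (h : γ (i1 n hn) % 2 = 1) :
    w n hn γ + τ (w n hn γ) = w n hn (shift hn γ) := by
  rw [add_tau_w hn τ hτ1 hτ, if_neg (by omega), shift, ← eps_one_mul_w]
  congr 1
  rw [w_of_even]
  · refine congrArg (fun e => psi0 n (monomial e 1)) ?_
    ext i
    simp only [ev, Finsupp.coe_update, Function.update_apply]
    by_cases hi : i = i1 n hn <;> simp [hi]
    omega
  · simp only [Finsupp.coe_update, Function.update_self]
    omega

theorem shift_apply_i0 (hn : 2 ≤ n) (γ : Fin (numVars n) →₀ ℕ) :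
    shift hn γ (i0 n) = γ (i0 n) + 1 := by
  simp [shift, i0_ne_i1 n hn]

theorem shift_apply_i1 (hn : 2 ≤ n) (γ : Fin (numVars n) →₀ ℕ) :
    shift hn γ (i1 n hn) = γ (i1 n hn) - 1 := by
  simp [shift, (i0_ne_i1 n hn).symm]

theorem shift_apply_of_ne (hn : 2 ≤ n) (γ : Fin (numVars n) →₀ ℕ) {i : Fin (numVars n)}
    (h0 : i ≠ i0 n) (h1 : i ≠ i1 n hn) : shift hn γ i = γ i := by
  simp [shift, h0, h1]

theorem shift_lt (hn : 2 ≤ n) (γ : Idx n) (h : γ.1 (i0 n) + 1 ≠ n) :
    ∀ i, shift hn γ.1 i < bound n i := by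
  intro i
  by_cases h0 : i = i0 n
  · subst h0
    rw [shift_apply_i0, bound_i0]
    have := γ.2 (i0 n)
    rw [bound_i0] at this
    omega
  by_cases h1 : i = i1 n hn
  · subst h1
    rw [shift_apply_i1]
    exact lt_of_le_of_lt (Nat.sub_le _ _) (γ.2 _)
  · rw [shift_apply_of_ne hn _ h0 h1]
    exact γ.2 i

theorem mem_fixed_span (hn : 2 ≤ n) (τ : P n →ₐ[ZMod 2] P n) (hτ1 : τ (eps n 1) = eps n 1)
    (hτ : ∀ j : ℕ, 2 ≤ j → j ≤ numVars n → τ (eps n j) = eps n j + eps n 1 ^ (2 * j - 3))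
    (y : P n) (hy : τ y = y) :
    y ∈ Submodule.span (ZMod 2) (wBasis n hn '' fixedSet n hn) := by
  rw [Module.Basis.mem_span_image]
  intro γ hγ
  by_contra hnot
  simp only [fixedSet, Set.mem_setOf_eq, not_or] at hnot
  let γ' : Idx n := ⟨shift hn γ.1, shift_lt hn γ hnot.2⟩
  have key : ((wBasis n hn).coord γ') ∘ₗ (LinearMap.id + τ.toLinearMap) =
      (wBasis n hn).coord γ := by
    refine (wBasis n hn).ext fun δ => ?_
    simp only [LinearMap.comp_apply, LinearMap.add_apply, LinearMap.id_apply, AlgHom.toLinearMap_apply,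
      Module.Basis.coord_apply, Module.Basis.repr_self, Finsupp.single_apply]
    rw [wBasis_apply]
    rcases Nat.mod_two_eq_zero_or_one (δ.1 (i1 n hn)) with hδ | hδ
    · rw [add_tau_w hn τ hτ1 hτ, if_pos hδ, map_zero, Finsupp.coe_zero, Pi.zero_apply, if_neg]
      rintro rfl
      exact hnot.1 hδ
    · rw [add_tau_w_odd hn τ hτ1 hτ _ hδ]
      by_cases hd : δ.1 (i0 n) + 1 = n
      · rw [w_eq_zero n hn (by rw [shift_apply_i0, hd]), map_zero, Finsupp.coe_zero, Pi.zero_apply,
          if_neg]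
        rintro rfl
        exact hnot.2 hd
      · rw [← wBasis_apply n hn ⟨_, shift_lt hn δ hd⟩, Module.Basis.repr_self, Finsupp.single_apply]
        refine if_congr ?_ rfl rfl
        constructor
        · intro h
          have h' : shift hn δ.1 = shift hn γ.1 := congrArg Subtype.val h
          apply Subtype.ext
          ext i
          have := DFunLike.congr_fun h' i
          by_cases h0 : i = i0 n
          · subst h0; simp only [shift_apply_i0] at this; omega
          by_cases h1 : i = i1 n hn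
          · subst h1; simp only [shift_apply_i1] at this; omega
          · simpa only [shift_apply_of_ne hn _ h0 h1] using this
        · rintro rfl; rfl
  have h0 := LinearMap.congr_fun key y
  simp only [LinearMap.comp_apply, LinearMap.add_apply, LinearMap.id_apply,
    AlgHom.toLinearMap_apply, hy, add_self, map_zero] at h0
  exact Finsupp.mem_support_iff.mp hγ h0.symm

end QsChowLib
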