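import Mathlib
import Groth.Agent.QsChowLib.Basis

/-!
The fixed subalgebra and its presentation.
-/

open MvPolynomial QsChow

namespace QsChowLib

variable {n : ℕ}

theorem evar_some (i : Fin (numVars n)) : evar n (i.val + 1) = X (some i) := by
  rw [evar, dif_pos ⟨Nat.succ_pos _, i.2⟩]
  rfl

theorem phi_evar (i : Fin (numVars n)) : phi n (evar n (i.val + 1)) = genImage n (some i) := by
  rw [evar_some, phi, aeval_X]

theorem evar_one : evar n 1 = X (some (i0 n)) := evar_some (i0 n)

theorem evar_two (hn : 2 ≤ n) : evar n 2 = X (some (i1 n hn)) := evar_some (i1 n hn)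

theorem phi_xvar : phi n (xvar n) = eps n 1 ^ (n - 1) * eps n 2 := by
  rw [xvar, phi, aeval_X]; rfl

theorem phi_e1 : phi n (evar n 1) = eps n 1 := by
  rw [evar_one, phi, aeval_X, genImage_i0]

theorem phi_e2 (hn : 2 ≤ n) : phi n (evar n 2) = eps n 2 ^ 2 + eps n 1 * eps n 2 := by
  rw [evar_two hn, phi, aeval_X, genImage_i1]

theorem phi_rename (q : FreeP n) : phi n (rename some q) = psi0 n q := by
  rw [phi, psi0, aeval_rename]; rfl

/-- `Y ^ (2 ^ k)` in terms of `e₂ = Y ^ 2 + a Y`. -/
theorem pow_two_pow_eq {A : Type*} [CommRing A] [CharP A 2] (a y : A) (k : ℕ) :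
    y ^ 2 ^ k = a ^ (2 ^ k - 1) * y +
      ∑ t ∈ Finset.range k, a ^ (2 ^ k - 2 ^ (t + 1)) * (y ^ 2 + a * y) ^ 2 ^ t := by
  induction k with
  | zero => simp
  | succ k ih =>
    have h2 : ∀ z : A, z + z = 0 := CharTwo.add_self_eq_zero
    rw [pow_succ 2 k, pow_mul, ih, CharTwo.add_sq, CharTwo.sum_sq, Finset.sum_range_succ']
    have e : ∀ t, (a ^ (2 ^ k - 2 ^ (t + 1)) * (y ^ 2 + a * y) ^ 2 ^ t) ^ 2 =
        a ^ (2 ^ k * 2 - 2 ^ (t + 1 + 1)) * (y ^ 2 + a * y) ^ 2 ^ (t + 1) := fun t => by
      rw [mul_pow, ← pow_mul, ← pow_mul, Nat.sub_mul, ← pow_succ 2 (t + 1), ← pow_succ 2 t]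
    simp only [e]
    have hk : 1 ≤ 2 ^ k := Nat.one_le_two_pow
    obtain ⟨m, hm⟩ : ∃ m, 2 ^ k = m + 1 := ⟨2 ^ k - 1, by omega⟩
    rw [hm, mul_pow, ← pow_mul, zero_add, pow_one, pow_zero, pow_one]
    simp only [show (m + 1) * 2 - 1 = m * 2 + 1 by omega, show (m + 1) * 2 - 2 = m * 2 by omega,
      show m + 1 - 1 = m by omega]
    linear_combination -h2 (a ^ (m * 2 + 1) * y)

theorem eps_two_pow (hn : 2 ≤ n) : eps n 2 ^ 2 ^ klog n 2 = 0 := by
  have h := eps_succ n (i1 n hn)
  rw [show (i1 n hn).val + 1 = 2 from rfl] at h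
  rw [h, ← map_pow, X_pow_eq_monomial]
  exact mk_monomial_eq_zero n (i := i1 n hn) (by simp [bound_i1])

theorem eps_pow_bound (i : Fin (numVars n)) : eps n (i.val + 1) ^ bound n i = 0 := by
  rw [eps_succ, ← map_pow, X_pow_eq_monomial]
  exact mk_monomial_eq_zero n (i := i) (by simp)

theorem phi_sPoly (hn : 2 ≤ n) (j : ℕ) :
    phi n (sPoly n j) = eps n 2 ^ 2 ^ klog n j + eps n 1 ^ (2 ^ klog n j - 1) * eps n 2 := by
  haveI := charTwo n hn
  simp only [sPoly, map_sum, map_mul, map_pow, phi_e1, phi_e2 hn]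
  linear_combination
    -(pow_two_pow_eq (eps n 1) (eps n 2) (klog n j)) -
      add_self n (eps n 1 ^ (2 ^ klog n j - 1) * eps n 2)

theorem presIdeal_le_ker (hn : 2 ≤ n) : presIdeal n ≤ RingHom.ker (phi n) := by
  haveI := charTwo n hn
  have hpow := eps_one_pow n
  rw [presIdeal, Ideal.span_le]
  rintro q (hq | ⟨i, rfl⟩)
  · simp only [Set.mem_insert_iff, Set.mem_singleton_iff] at hq
    rw [SetLike.mem_coe, RingHom.mem_ker]
    rcases hq with rfl | rfl | rfl
    · rw [map_pow, phi_e1, hpow]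
    · rw [map_mul, phi_e1, phi_xvar, ← mul_assoc, ← pow_succ', show n - 1 + 1 = n by omega, hpow,
        zero_mul]
    · rw [map_pow, phi_xvar, mul_pow, ← pow_mul, pow_eq_zero_of_le (by omega) hpow, zero_mul]
  rw [SetLike.mem_coe, RingHom.mem_ker]
  show phi n (hrel n (i.val + 1)) = 0
  rw [hrel]
  split_ifs with h2 h3
  · rw [map_add, map_mul, map_pow, phi_e1, phi_xvar, phi_sPoly hn, eps_two_pow hn]
    have := le_two_pow_klog_two n hn
    rw [← mul_assoc, ← pow_add, show 2 ^ klog n 2 - n + (n - 1) = 2 ^ klog n 2 - 1 by omega]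
    linear_combination add_self n (eps n 1 ^ (2 ^ klog n 2 - 1) * eps n 2)
  · have hi : i.val ≠ 0 ∧ i.val ≠ 1 := ⟨by omega, by omega⟩
    have hb : eps n (i.val + 1) ^ 2 ^ klog n (i.val + 1) = 0 := by
      have := eps_pow_bound i
      rwa [bound, if_neg hi.1] at this
    have hge := le_mul_two_pow_klog n hn (i.val + 1) (by omega)
    rw [map_add, map_add, map_pow, map_mul, map_pow, map_mul, map_pow, phi_e1, phi_evar, phi_xvar,
      phi_sPoly hn, genImage]
    simp only [hi.1, hi.2, if_false]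
    rw [add_pow_char_pow, hb, mul_pow, ← pow_mul]
    obtain ⟨e, he⟩ : ∃ e, i.val = e + 2 := ⟨i.val - 2, by omega⟩
    rw [he] at hge ⊢
    simp only [show 2 * (e + 2 + 1) - 4 = 2 * e + 2 by omega,
      show 2 * (e + 2 + 1) - 3 = 2 * e + 3 by omega] at hge ⊢
    obtain ⟨K, hK⟩ : ∃ K, 2 ^ klog n (e + 2 + 1) = K + 1 :=
      ⟨2 ^ klog n (e + 2 + 1) - 1, by have := Nat.one_le_two_pow (n := klog n (e + 2 + 1)); omega⟩
    rw [hK] at hge ⊢
    have hexp : (2 * e + 3) * (K + 1) - n + (n - 1) = (2 * e + 2) * (K + 1) + K := by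
      have : (2 * e + 3) * (K + 1) = (2 * e + 2) * (K + 1) + K + 1 := by ring
      omega
    rw [← mul_assoc (eps n 1 ^ _), ← pow_add, hexp, pow_add, show K + 1 - 1 = K by omega]
    linear_combination add_self n (eps n 1 ^ ((2 * e + 2) * (K + 1)) * eps n 2 ^ (K + 1)) +
      add_self n (eps n 1 ^ ((2 * e + 2) * (K + 1)) * eps n 1 ^ K * eps n 2)
  · exact map_zero _

/-- The chosen monomial over a fixed exponent. -/
noncomputable def u (hn : 2 ≤ n) (γ : Fin (numVars n) →₀ ℕ) : FreeE n :=
  if γ (i1 n hn) % 2 = 0 then rename some (monomial (ev n hn γ) 1)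
  else xvar n * rename some (monomial ((ev n hn γ).erase (i0 n)) 1)

theorem phi_u (hn : 2 ≤ n) (γ : Idx n) (hγ : γ ∈ fixedSet n hn) :
    phi n (u hn γ.1) = w n hn γ.1 := by
  rw [u]
  split_ifs with h
  · rw [phi_rename, w_of_even hn _ h]
  · have hn1 : γ.1 (i0 n) + 1 = n := hγ.resolve_left h
    have hev : ev n hn γ.1 (i0 n) = n - 1 := by
      rw [ev, Finsupp.coe_update, Function.update_of_ne (i0_ne_i1 n hn)]; omega
    rw [map_mul, phi_rename, phi_xvar, w, show γ.1 (i1 n hn) % 2 = 1 by omega, pow_one]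
    conv_rhs => rw [← Finsupp.single_add_erase (i0 n) (ev n hn γ.1), monomial_single_add, map_mul,
      map_pow, psi0, aeval_X, genImage_i0, hev]
    rw [psi0]
    ring

theorem linearIndependent_w_fixed (hn : 2 ≤ n) :
    LinearIndependent (ZMod 2) fun γ : fixedSet n hn => phi n (u hn γ.1.1) := by
  have := (wBasis n hn).linearIndependent.comp ((↑) : fixedSet n hn → Idx n) Subtype.val_injective
  simpa [Function.comp_def, fun γ : fixedSet n hn => phi_u hn γ.1 γ.2] using this

theorem fixed_le_range (hn : 2 ≤ n) :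
    Submodule.span (ZMod 2) (wBasis n hn '' fixedSet n hn) ≤ Subalgebra.toSubmodule (phi n).range := by
  rw [Submodule.span_le]
  rintro _ ⟨γ, hγ, rfl⟩
  rw [wBasis_apply, ← phi_u hn γ hγ]
  exact ⟨_, rfl⟩

/-- The set of monomials spanning the presented algebra. -/
noncomputable def N (hn : 2 ≤ n) : Submodule (ZMod 2) (FreeE n ⧸ presIdeal n) :=
  Submodule.span (ZMod 2)
    (Set.range fun γ : fixedSet n hn => Ideal.Quotient.mk (presIdeal n) (u hn γ.1.1))

theorem rel_e1x : Ideal.Quotient.mk (presIdeal n) (evar n 1 * xvar n) = 0 :=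
  Ideal.Quotient.eq_zero_iff_mem.mpr (Ideal.subset_span (by simp))

theorem rel_e1n : Ideal.Quotient.mk (presIdeal n) (evar n 1 ^ n) = 0 :=
  Ideal.Quotient.eq_zero_iff_mem.mpr (Ideal.subset_span (by simp))

theorem rel_xx : Ideal.Quotient.mk (presIdeal n) (xvar n ^ 2) = 0 :=
  Ideal.Quotient.eq_zero_iff_mem.mpr (Ideal.subset_span (by simp))

theorem e1_mul_mem (hn : 2 ≤ n) (q : FreeE n ⧸ presIdeal n) (hq : q ∈ N hn) :
    Ideal.Quotient.mk (presIdeal n) (evar n 1) * q ∈ N hn := by
  refine Submodule.span_induction ?_ (by simp) (fun a b _ _ ha hb => by rw [mul_add]; exact add_mem ha hb)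
    (fun c a _ ha => by rw [mul_smul_comm]; exact Submodule.smul_mem _ c ha) hq
  rintro _ ⟨⟨γ, hγ⟩, rfl⟩
  rw [← map_mul, u]
  split_ifs with h
  · rw [evar_one]
    have h01 := i0_ne_i1 n hn
    have hev : ev n hn (γ.1 + Finsupp.single (i0 n) 1) = Finsupp.single (i0 n) 1 + ev n hn γ.1 := by
      ext i
      simp only [ev, Finsupp.coe_update, Finsupp.coe_add, Pi.add_apply, Function.update_apply]
      by_cases hi : i = i1 n hn
      · subst hi; simp [h01.symm]
      · simp [hi, add_comm]
    have e : X (some (i0 n)) * rename some (monomial (ev n hn γ.1) (1 : ZMod 2)) =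
        rename some (monomial (ev n hn (γ.1 + Finsupp.single (i0 n) 1)) 1) := by
      rw [hev, monomial_single_add, pow_one, map_mul, rename_X]
    rw [e]
    by_cases hlast : γ.1 (i0 n) + 1 = n
    · have hle : Finsupp.single (i0 n) n ≤ ev n hn (γ.1 + Finsupp.single (i0 n) 1) := by
        rw [Finsupp.single_le_iff, ev, Finsupp.coe_update, Function.update_of_ne h01]
        simp [hlast]
      rw [← add_tsub_cancel_of_le hle, monomial_single_add, map_mul, map_pow, rename_X, ← evar_one,
        map_mul, rel_e1n, zero_mul]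
      exact zero_mem _
    · have hb : ∀ i, (γ.1 + Finsupp.single (i0 n) 1 : Fin (numVars n) →₀ ℕ) i < bound n i := by
        intro i
        have := γ.2 i
        by_cases hi : i = i0 n
        · subst hi; rw [bound_i0] at this ⊢; simp; omega
        · simpa [Finsupp.single_eq_of_ne hi] using this
      have heven : (γ.1 + Finsupp.single (i0 n) 1 : Fin (numVars n) →₀ ℕ) (i1 n hn) % 2 = 0 := by
        simp [h01.symm, h]
      refine Submodule.subset_span ⟨⟨⟨_, hb⟩, Or.inl heven⟩, ?_⟩
      simp only [u, heven, if_true]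
  · rw [← mul_assoc, map_mul, rel_e1x, zero_mul]
    exact zero_mem _

/-- The truncation exponents modulo `(e₁, x)`. -/
noncomputable def topExp (hn : 2 ≤ n) (i : Fin (numVars n)) : ℕ :=
  if i = i1 n hn then 2 ^ (klog n 2 - 1) else bound n i

theorem top_pow_mem (hn : 2 ≤ n) (i : Fin (numVars n)) (hi : i ≠ i0 n) :
    ∃ a b, Ideal.Quotient.mk (presIdeal n) (X (some i) ^ topExp hn i) =
      Ideal.Quotient.mk (presIdeal n) (evar n 1) * a + Ideal.Quotient.mk (presIdeal n) (xvar n) * b := by
  set π := Ideal.Quotient.mk (presIdeal n) with hπ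
  set I := Ideal.span ({π (evar n 1), π (xvar n)} : Set (FreeE n ⧸ presIdeal n)) with hI
  suffices h : π (X (some i) ^ topExp hn i) ∈ I by
    obtain ⟨a, b, hab⟩ := Ideal.mem_span_pair.mp h
    exact ⟨a, b, by rw [← hab]; ring⟩
  have he : π (evar n 1) ∈ I := Ideal.subset_span (by simp)
  have hx : π (xvar n) ∈ I := Ideal.subset_span (by simp)
  have hrel0 : ∀ j : Fin (numVars n), π (hrel n (j.val + 1)) = 0 := fun j =>
    Ideal.Quotient.eq_zero_iff_mem.mpr (Ideal.subset_span (Or.inr ⟨j, rfl⟩))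
  by_cases h1 : i = i1 n hn
  · subst h1
    have h := hrel0 (i1 n hn)
    rw [show (i1 n hn).val + 1 = 2 from rfl, hrel, if_pos rfl, sPoly] at h
    obtain ⟨k, hk⟩ : ∃ k, klog n 2 = k + 1 := ⟨klog n 2 - 1, by have := klog_two_pos n hn; omega⟩
    rw [hk, Finset.sum_range_succ, Nat.sub_self, pow_zero, one_mul] at h
    rw [topExp, if_pos rfl, ← evar_two hn, hk, Nat.add_sub_cancel]
    rw [map_add, map_add, ← add_assoc] at h
    rw [eq_neg_of_add_eq_zero_right h]
    refine I.neg_mem (I.add_mem ?_ ?_)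
    · rw [map_mul]; exact I.mul_mem_left _ hx
    · rw [map_sum]
      refine I.sum_mem fun t ht => ?_
      rw [map_mul, map_pow]
      refine I.mul_mem_right _ (I.pow_mem_of_mem he _ ?_)
      have ht' := Finset.mem_range.mp ht
      have : 2 ^ (t + 1) < 2 ^ (k + 1) := Nat.pow_lt_pow_right (by norm_num) (by omega)
      omega
  · have hi0 : i.val ≠ 0 := fun h => hi (Fin.ext h)
    have hi1 : i.val ≠ 1 := fun h => h1 (Fin.ext h)
    have h := hrel0 i
    rw [hrel, if_neg (by omega), if_pos ⟨by omega, i.2⟩, map_add, map_add, add_assoc,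
      ← evar_some] at *
    rw [topExp, if_neg h1, bound, if_neg hi0, eq_neg_of_add_eq_zero_left h]
    refine I.neg_mem (I.add_mem ?_ ?_)
    · rw [map_mul]; exact I.mul_mem_left _ hx
    · rw [map_mul, map_pow]
      refine I.mul_mem_right _ (I.pow_mem_of_mem he _ ?_)
      exact Nat.mul_pos (by omega) (Nat.two_pow_pos _)

theorem span_quotient (hn : 2 ≤ n) : N hn = ⊤ := by
  classical
  have h01 := i0_ne_i1 n hn
  set π := Ideal.Quotient.mk (presIdeal n) with hπ
  set T0 : Submodule (ZMod 2) (FreeE n ⧸ presIdeal n) := Submodule.span (ZMod 2)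
    {q | ∃ d : Fin (numVars n) →₀ ℕ, d (i0 n) = 0 ∧ (∀ i, i ≠ i0 n → d i < topExp hn i) ∧
      π (rename some (monomial d 1)) = q} with hT0
  have step1 : ∀ q : FreeE n ⧸ presIdeal n,
      ∃ y ∈ T0, ∃ a b, q = y + π (evar n 1) * a + π (xvar n) * b := by
    intro q
    obtain ⟨p, rfl⟩ := Ideal.Quotient.mk_surjective q
    induction p using MvPolynomial.induction_on' with
    | add p p' hp hp' =>
      obtain ⟨y, hy, a, b, e⟩ := hp
      obtain ⟨y', hy', a', b', e'⟩ := hp'
      exact ⟨y + y', add_mem hy hy', a + a', b + b', by rw [map_add, e, e']; ring⟩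
    | monomial D c =>
      by_cases hD : D none = 0
      · obtain ⟨d, rfl⟩ : ∃ d : Fin (numVars n) →₀ ℕ, D = d.mapDomain some := by
          refine ⟨D.some, Finsupp.ext fun o => ?_⟩
          cases o with
          | none => rw [hD, Finsupp.mapDomain_of_notMem_range]; simp
          | some i => rw [Finsupp.mapDomain_apply (Option.some_injective _)]; rfl
        rw [← rename_monomial]
        by_cases hd0 : d (i0 n) = 0
        · by_cases hall : ∀ i, i ≠ i0 n → d i < topExp hn i
          · refine ⟨π (rename some (monomial d c)), ?_, 0, 0, by simp [hπ]⟩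
            have : π (rename some (monomial d c)) = c • π (rename some (monomial d 1)) := by
              rw [hπ, ← Ideal.Quotient.mkₐ_eq_mk (ZMod 2), ← map_smul, ← map_smul, smul_monomial,
                smul_eq_mul, mul_one]
            rw [this]
            exact Submodule.smul_mem _ c (Submodule.subset_span ⟨d, hd0, hall, rfl⟩)
          · push Not at hall
            obtain ⟨i, hi, hge⟩ := hall
            obtain ⟨a, b, hab⟩ := top_pow_mem hn i hi
            refine ⟨0, zero_mem _, a * π (rename some (monomial (d - Finsupp.single i (topExp hn i)) c)),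
              b * π (rename some (monomial (d - Finsupp.single i (topExp hn i)) c)), ?_⟩
            conv_lhs => rw [← add_tsub_cancel_of_le (Finsupp.single_le_iff.mpr hge), monomial_single_add,
              map_mul, map_mul, map_pow, rename_X, hab]
            ring
        · refine ⟨0, zero_mem _, π (rename some (monomial (d - Finsupp.single (i0 n) 1) c)), 0, ?_⟩
          conv_lhs => rw [← add_tsub_cancel_of_le
            (Finsupp.single_le_iff.mpr (Nat.one_le_iff_ne_zero.mpr hd0)), monomial_single_add, map_mul,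
            map_mul, pow_one, rename_X, ← evar_one]
          ring
      · refine ⟨0, zero_mem _, 0, π (monomial (D - Finsupp.single none 1) c), ?_⟩
        conv_lhs => rw [← add_tsub_cancel_of_le
          (Finsupp.single_le_iff.mpr (Nat.one_le_iff_ne_zero.mpr hD)), monomial_single_add, map_mul,
          pow_one]
        rw [xvar]
        ring
  have htop : ∀ (d : Fin (numVars n) →₀ ℕ) (i : Fin (numVars n)), i ≠ i0 n → i ≠ i1 n hn →
      d i < topExp hn i → d i < bound n i := fun d i h0 h1 h => by rwa [topExp, if_neg h1] at h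
  have hhalf : ∀ a, a < topExp hn (i1 n hn) → 2 * a + 1 < 2 ^ klog n 2 := by
    intro a ha
    rw [topExp, if_pos rfl] at ha
    obtain ⟨k, hk⟩ : ∃ k, klog n 2 = k + 1 := ⟨klog n 2 - 1, by have := klog_two_pos n hn; omega⟩
    rw [hk, Nat.add_sub_cancel] at ha
    rw [hk, pow_succ]
    omega
  have hT0N : T0 ≤ N hn := by
    refine Submodule.span_le.mpr ?_
    rintro _ ⟨d, hd0, hd, rfl⟩
    let γ : Fin (numVars n) →₀ ℕ := d.update (i1 n hn) (2 * d (i1 n hn))
    have hb : ∀ i, γ i < bound n i := fun i => by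
      simp only [γ, Finsupp.coe_update, Function.update_apply]
      by_cases h1 : i = i1 n hn
      · subst h1
        rw [if_pos rfl, bound_i1]
        have := hhalf _ (hd _ h01.symm)
        omega
      · rw [if_neg h1]
        by_cases h0 : i = i0 n
        · subst h0; rw [hd0, bound_i0]; omega
        · exact htop d i h0 h1 (hd i h0)
    have heven : γ (i1 n hn) % 2 = 0 := by simp [γ]
    refine Submodule.subset_span ⟨⟨⟨γ, hb⟩, Or.inl heven⟩, ?_⟩
    show π (u hn γ) = _
    rw [u, if_pos heven]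
    refine congrArg (fun e => π (rename some (monomial e 1))) ?_
    ext i
    simp only [ev, γ, Finsupp.coe_update, Function.update_apply]
    by_cases h1 : i = i1 n hn <;> simp [h1]
  have hxT0 : ∀ y ∈ T0, π (xvar n) * y ∈ N hn := by
    intro y hy
    refine Submodule.span_induction ?_ (by simp) (fun a b _ _ ha hb => by rw [mul_add]; exact add_mem ha hb)
      (fun c a _ ha => by rw [mul_smul_comm]; exact Submodule.smul_mem _ c ha) hy
    rintro _ ⟨d, hd0, hd, rfl⟩
    let γ : Fin (numVars n) →₀ ℕ :=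
      (d.update (i1 n hn) (2 * d (i1 n hn) + 1)).update (i0 n) (n - 1)
    have hγ1 : γ (i1 n hn) = 2 * d (i1 n hn) + 1 := by simp [γ, h01.symm]
    have hγ0 : γ (i0 n) = n - 1 := by simp [γ]
    have hb : ∀ i, γ i < bound n i := fun i => by
      by_cases h0 : i = i0 n
      · subst h0; rw [hγ0, bound_i0]; omega
      by_cases h1 : i = i1 n hn
      · subst h1; rw [hγ1, bound_i1]; exact hhalf _ (hd _ h01.symm)
      · simpa [γ, h0, h1] using htop d i h0 h1 (hd i h0)
    refine Submodule.subset_span ⟨⟨⟨γ, hb⟩, Or.inr (show γ (i0 n) + 1 = n by omega)⟩, ?_⟩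
    show π (u hn γ) = _
    rw [u, if_neg (by omega), ← map_mul]
    refine congrArg (fun e => π (xvar n * rename some (monomial e 1))) ?_
    ext i
    by_cases h0 : i = i0 n
    · subst h0; simp [hd0]
    rw [Finsupp.erase_ne h0, ev, Finsupp.coe_update, Function.update_apply]
    by_cases h1 : i = i1 n hn
    · subst h1; rw [if_pos rfl, hγ1]; omega
    · simp [γ, h0, h1]
  refine eq_top_of_sup_mul (N hn) (π (evar n 1)) n (by rw [← map_pow]; exact rel_e1n)
    (e1_mul_mem hn) fun q => ?_
  obtain ⟨y, hy, a, b, rfl⟩ := step1 q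
  obtain ⟨y', hy', a', b', rfl⟩ := step1 b
  refine ⟨y + π (xvar n) * y', add_mem (hT0N hy) (hxT0 y' hy'), a + π (xvar n) * a', ?_⟩
  have hxx : π (xvar n) * π (xvar n) = 0 := by rw [← map_mul, ← sq]; exact rel_xx
  linear_combination b' * hxx

theorem ker_phi (hn : 2 ≤ n) : RingHom.ker (phi n) = presIdeal n := by
  haveI : Fintype (fixedSet n hn) := Fintype.ofFinite _
  refine le_antisymm (fun q hq => ?_) (presIdeal_le_ker hn)
  have hq' : Ideal.Quotient.mk (presIdeal n) q ∈ N hn := by rw [span_quotient hn]; trivial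
  rw [N, Submodule.mem_span_range_iff_exists_fun] at hq'
  obtain ⟨c, hc⟩ := hq'
  have hmem : q - ∑ γ, c γ • u hn γ.1.1 ∈ presIdeal n := by
    rw [← Ideal.Quotient.eq, ← hc, ← Ideal.Quotient.mkₐ_eq_mk (ZMod 2), map_sum]
    exact Finset.sum_congr (by congr) fun γ _ => (map_smul _ _ _).symm
  have h0 := RingHom.mem_ker.mp (presIdeal_le_ker hn hmem)
  rw [map_sub, RingHom.mem_ker.mp hq, zero_sub, neg_eq_zero, map_sum] at h0
  simp only [map_smul] at h0
  have hc0 := Fintype.linearIndependent_iff.mp (linearIndependent_w_fixed hn) c h0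
  simpa [hc0] using hmem

theorem range_phi (hn : 2 ≤ n) (τ : P n →ₐ[ZMod 2] P n) (hτ1 : τ (eps n 1) = eps n 1)
    (hτ : ∀ j : ℕ, 2 ≤ j → j ≤ numVars n → τ (eps n j) = eps n j + eps n 1 ^ (2 * j - 3)) :
    (phi n).range = AlgHom.equalizer τ (AlgHom.id (ZMod 2) (P n)) := by
  refine le_antisymm ?_ fun y hy => fixed_le_range hn (mem_fixed_span hn τ hτ1 hτ y hy)
  rintro _ ⟨q, rfl⟩
  show τ (phi n q) = phi n q
  have : τ.comp (phi n) = phi n := MvPolynomial.algHom_ext fun o => by
    simp [phi, tau_genImage hn τ hτ1 hτ]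
  exact AlgHom.congr_fun this q

end QsChowLib
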