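import Mathlib
import Groth.Prelude.Def_W4c4chowquasisplitPn2
import Groth.Agent.QsChowLib.Kernel

/-!
Arithmetic of the exponents and reduction of the presentation modulo powers of `e₁`.
-/

open MvPolynomial QsChow

namespace QsChowLib

variable {n : ℕ}

theorem klog_bounds (j : ℕ) (hj : 2 ≤ j) (hjn : 2 * j - 3 ≤ 2 * n - 1) :
    (2 * j - 3) * 2 ^ klog n j ≤ 2 * n - 1 ∧ 2 * n - 1 < (2 * j - 3) * 2 ^ (klog n j + 1) := by
  have hm : 0 < 2 * j - 3 := by omega
  have hne : (2 * n - 1) / (2 * j - 3) ≠ 0 := (Nat.div_pos hjn hm).ne'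
  refine ⟨?_, ?_⟩
  · rw [mul_comm, ← Nat.le_div_iff_mul_le hm]
    exact Nat.pow_log_le_self 2 hne
  · have h := (Nat.div_lt_iff_lt_mul hm).mp
      (Nat.lt_pow_succ_log_self (b := 2) (by norm_num) ((2 * n - 1) / (2 * j - 3)))
    exact h.trans_eq (mul_comm _ _)

theorem log_eq_klog (j : ℕ) (hj : 2 ≤ j) (hjn : 2 * j - 3 ≤ 2 * n - 1)
    (hne : (2 * j - 3) * 2 ^ klog n j ≠ n) : Nat.log 2 (2 * n / (2 * j - 3)) = klog n j := by
  obtain ⟨h1, h2⟩ := klog_bounds j hj hjn
  have hm : 0 < 2 * j - 3 := by omega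
  refine Nat.log_eq_of_pow_le_of_lt_pow ?_ ?_
  · rw [Nat.le_div_iff_mul_le hm, mul_comm]; omega
  · rw [Nat.div_lt_iff_lt_mul hm]
    rw [pow_succ] at h2 ⊢
    have e : (2 * j - 3) * (2 ^ klog n j * 2) = 2 * ((2 * j - 3) * 2 ^ klog n j) := by ring
    have e' : 2 ^ klog n j * 2 * (2 * j - 3) = 2 * ((2 * j - 3) * 2 ^ klog n j) := by ring
    omega

theorem index_bound (hn : 2 ≤ n) {j : ℕ} (hj : 2 ≤ j) (hjs : j ≤ numVars n) :
    2 * j - 3 ≤ 2 * n - 1 ∧ 2 * j - 3 < n := by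
  unfold numVars at hjs
  omega

theorem kprime_of_ne (hn : 2 ≤ n) {j : ℕ} (hj : 3 ≤ j) (hjs : j ≤ numVars n)
    (hne : (2 * j - 3) * 2 ^ klog n j ≠ n) : kprime n j = klog n j := by
  rw [kprime, if_neg (by omega), if_neg (by omega),
    log_eq_klog j (by omega) (index_bound hn (by omega) hjs).1 hne]

theorem log_two_eq (hn : 2 ≤ n) (h : 2 ^ klog n 2 ≠ n) : Nat.log 2 n = klog n 2 - 1 := by
  obtain ⟨h1, -⟩ := klog_bounds (n := n) 2 le_rfl (by omega)
  have h2 := le_two_pow_klog_two n hn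
  obtain ⟨k, hk⟩ : ∃ k, klog n 2 = k + 1 := ⟨klog n 2 - 1, by have := klog_two_pos n hn; omega⟩
  rw [hk] at h h1 h2 ⊢
  rw [Nat.add_sub_cancel]
  refine Nat.log_eq_of_pow_le_of_lt_pow ?_ ?_
  · rw [pow_succ] at h1; omega
  · omega

theorem rename_evarE (j : ℕ) : rename some (evarE n j) = evar n j := by
  unfold evarE evar
  split <;> simp

theorem evarE_some (i : Fin (numVars n)) : evarE n (i.val + 1) = X i := by
  rw [evarE, dif_pos ⟨Nat.succ_pos _, i.2⟩]
  rfl

/-- The presentation ideal enlarged by a power of `e₁`. -/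
noncomputable def modPow (n A : ℕ) : Ideal (FreeE n) := presIdeal n ⊔ Ideal.span {evar n 1 ^ A}

theorem presIdeal_le_modPow (A : ℕ) : presIdeal n ≤ modPow n A := le_sup_left

theorem pow_mem_modPow (A m : ℕ) (h : A ≤ m) : evar n 1 ^ m ∈ modPow n A :=
  le_sup_right (a := presIdeal n) (Ideal.mem_of_dvd _ (pow_dvd_pow _ h) (Ideal.mem_span_singleton_self _))

theorem pow_mul_xvar_mem (A m : ℕ) (h : 0 < m) : evar n 1 ^ m * xvar n ∈ modPow n A := by
  obtain ⟨m', rfl⟩ : ∃ m', m = m' + 1 := ⟨m - 1, by omega⟩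
  rw [pow_succ, mul_assoc]
  exact Ideal.mul_mem_left _ _ (presIdeal_le_modPow A (Ideal.subset_span (by simp)))

theorem hrel_mem (A j : ℕ) (hj : 0 < j) (hjs : j ≤ numVars n) : hrel n j ∈ modPow n A :=
  presIdeal_le_modPow A (Ideal.subset_span (Or.inr ⟨⟨j - 1, by omega⟩, by
    show hrel n (j - 1 + 1) = _
    rw [show j - 1 + 1 = j by omega]⟩))

theorem exists_fixed_iff (hn : 2 ≤ n) (τ : P n →ₐ[ZMod 2] P n) (hτ1 : τ (eps n 1) = eps n 1)
    (hτ : ∀ j : ℕ, 2 ≤ j → j ≤ numVars n → τ (eps n j) = eps n j + eps n 1 ^ (2 * j - 3))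
    (A : ℕ) (q : FreeE n) :
    (∃ v : P n, τ v = v ∧ phi n q = eps n 1 ^ A * v) ↔ q ∈ modPow n A := by
  constructor
  · rintro ⟨v, hv, e⟩
    obtain ⟨r, rfl⟩ : v ∈ (phi n).range := by rw [range_phi hn τ hτ1 hτ]; exact hv
    have hk : q - evar n 1 ^ A * r ∈ presIdeal n := by
      rw [← ker_phi hn, RingHom.mem_ker, map_sub, map_mul, map_pow, phi_e1]
      exact sub_eq_zero.mpr e
    have := add_mem (presIdeal_le_modPow A hk)
      (Ideal.mul_mem_right r _ (pow_mem_modPow A A le_rfl))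
    rwa [sub_add_cancel] at this
  · intro hq
    obtain ⟨a, ha, b, hb, rfl⟩ := Submodule.mem_sup.mp hq
    obtain ⟨r, rfl⟩ := Ideal.mem_span_singleton.mp hb
    have hr : phi n r ∈ (phi n).range := ⟨r, rfl⟩
    rw [range_phi hn τ hτ1 hτ] at hr
    refine ⟨phi n r, hr, ?_⟩
    rw [map_add, RingHom.mem_ker.mp (presIdeal_le_ker hn ha), zero_add, map_mul, map_pow, phi_e1]

/-- Substitute `x ↦ s`. -/
noncomputable def substX (s : FreeP n) : FreeE n →ₐ[ZMod 2] FreeP n :=
  aeval fun o => o.elim s X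

theorem substX_rename (s q : FreeP n) : substX s (rename some q) = q := by
  have : (substX s).comp (rename some) = AlgHom.id (ZMod 2) (FreeP n) :=
    MvPolynomial.algHom_ext fun i => by simp [substX]
  exact AlgHom.congr_fun this q

theorem substX_evar (s : FreeP n) (j : ℕ) : substX s (evar n j) = evarE n j := by
  rw [← rename_evarE, substX_rename]

theorem substX_xvar (s : FreeP n) : substX s (xvar n) = s := by simp [substX, xvar]

theorem sub_rename_substX_mem (A : ℕ) (s : FreeP n) (hx : xvar n - rename some s ∈ modPow n A)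
    (r : FreeE n) : r - rename some (substX s r) ∈ modPow n A := by
  rw [← Ideal.Quotient.eq]
  have : (Ideal.Quotient.mkₐ (ZMod 2) (modPow n A)) =
      (Ideal.Quotient.mkₐ (ZMod 2) (modPow n A)).comp ((rename some).comp (substX s)) := by
    refine MvPolynomial.algHom_ext fun o => ?_
    cases o with
    | none => simpa [substX, Ideal.Quotient.eq] using! hx
    | some i => simp [substX]
  exact AlgHom.congr_fun this r

theorem substX_mem (A : ℕ) (s : FreeP n) (I : Ideal (FreeP n)) (h1 : evarE n 1 ^ A ∈ I)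
    (hA : A ≤ n) (hex : evarE n 1 * s ∈ I) (hxx : s ^ 2 ∈ I)
    (hh : ∀ j, 2 ≤ j → j ≤ numVars n → substX s (hrel n j) ∈ I) {r : FreeE n}
    (hr : r ∈ modPow n A) : substX s r ∈ I := by
  suffices h : modPow n A ≤ Ideal.comap (substX s).toRingHom I from h hr
  refine sup_le ?_ ?_
  · rw [presIdeal, Ideal.span_le]
    rintro q (hq | ⟨i, rfl⟩)
    · simp only [Set.mem_insert_iff, Set.mem_singleton_iff] at hq
      show substX s q ∈ I
      rcases hq with rfl | rfl | rfl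
      · rw [map_pow, substX_evar]; exact Ideal.mem_of_dvd _ (pow_dvd_pow _ hA) h1
      · rw [map_mul, substX_evar, substX_xvar]; exact hex
      · rw [map_pow, substX_xvar]; exact hxx
    show substX s (hrel n (i.val + 1)) ∈ I
    by_cases hi : 2 ≤ i.val + 1
    · exact hh _ hi i.2
    · rw [hrel, if_neg (by omega), if_neg (by omega), map_zero]
      exact zero_mem _
  · rw [Ideal.span_le, Set.singleton_subset_iff]
    show substX s (evar n 1 ^ A) ∈ I
    rw [map_pow, substX_evar]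
    exact h1

theorem rename_mem (A : ℕ) (G : Set (FreeP n)) (hG : ∀ g ∈ G, rename some g ∈ modPow n A)
    {q : FreeP n} (hq : q ∈ Ideal.span G) : rename some q ∈ modPow n A := by
  suffices h : Ideal.span G ≤ Ideal.comap (rename some : FreeP n →ₐ[ZMod 2] FreeE n).toRingHom
    (modPow n A) from h hq
  exact Ideal.span_le.mpr hG

/-- `S_j` without `x`. -/
noncomputable def sPolyE (n j : ℕ) : FreeP n :=
  ∑ t ∈ Finset.range (klog n j), evarE n 1 ^ (2 ^ klog n j - 2 ^ (t + 1)) * evarE n 2 ^ 2 ^ t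

theorem rename_sPolyE (j : ℕ) : rename some (sPolyE n j) = sPoly n j := by
  simp [sPolyE, sPoly, rename_evarE]

theorem substX_sPoly (s : FreeP n) (j : ℕ) : substX s (sPoly n j) = sPolyE n j := by
  rw [← rename_sPolyE, substX_rename]

theorem sPolyE_two_sub_mem (hn : 2 ≤ n) {A : ℕ} (hA : A ≤ 2 ^ (klog n 2 - 1)) :
    sPolyE n 2 - evarE n 2 ^ 2 ^ (klog n 2 - 1) ∈ Ideal.span {evarE n 1 ^ A} := by
  obtain ⟨k, hk⟩ : ∃ k, klog n 2 = k + 1 := ⟨klog n 2 - 1, by have := klog_two_pos n hn; omega⟩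
  rw [hk, Nat.add_sub_cancel] at hA
  rw [sPolyE, hk, Nat.add_sub_cancel, Finset.sum_range_succ, Nat.sub_self, pow_zero, one_mul,
    add_sub_cancel_right]
  refine Ideal.sum_mem _ fun t ht => Ideal.mul_mem_right _ _ ?_
  refine Ideal.mem_span_singleton.mpr (pow_dvd_pow _ ?_)
  have : 2 ^ (t + 1) ≤ 2 ^ k := Nat.pow_le_pow_right (by norm_num)
    (by have := Finset.mem_range.mp ht; omega)
  rw [pow_succ 2 k]
  omega

theorem psi_eq_psi0 : psi n = psi0 n := rfl

end QsChowLib
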