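import Groth.Prelude.Def_W4c4chowquasisplitNorm
import Groth.Agent.WeilCohLib.Geom
import Mathlib

/-!
Norm subgroups of Chow groups are everything in the presence of a section of `X_F ⟶ X`.
-/

set_option autoImplicit false

open CategoryTheory AlgebraicGeometry

universe u

namespace Groth.Agent.QsChowLib

theorem map_map_of_comp_eq_id {X Y : Scheme.{u}} (σ : X ⟶ Y) (π : Y ⟶ X) [QuasiCompact σ]
    [QuasiCompact π] (h : σ ≫ π = 𝟙 X) (δ : X → ℤ) (α : AlgebraicCycle X ℤ) :
    AlgebraicCycle.map π (δ ∘ ⇑π.base) δ (AlgebraicCycle.map σ δ (δ ∘ ⇑π.base) α) = α := by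
  have hpt : ∀ x, π (σ x) = x := fun x => by rw [← Scheme.Hom.comp_apply, h]; rfl
  have hdeg := WeilCohLib.residueDegree_of_comp_eq_id σ π h
  have hβ : ∀ x, AlgebraicCycle.map σ δ (δ ∘ ⇑π.base) α (σ x) = α x := by
    intro x
    simp only [AlgebraicCycle.map, Function.locallyFinsupp.map_apply]
    rw [show σ ⁻¹' {σ x} = {x} from Set.ext fun y => ⟨fun hy => by
      have := congrArg π hy; rwa [hpt, hpt] at this, fun hy => by rw [hy]; rfl⟩]
    rw [finsum_mem_singleton, AlgebraicCycle.mapCoeff, if_pos]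
    · simp [(hdeg x).1]
    · exact congrArg δ (hpt x).symm
  ext z
  classical
  simp only [AlgebraicCycle.map, Function.locallyFinsupp.map_apply]
  rw [finsum_eq_single _ (σ z)]
  · rw [finsum_eq_if, if_pos (show σ z ∈ ⇑π ⁻¹' {z} from hpt z)]
    have := hβ z
    simp only [AlgebraicCycle.map, Function.locallyFinsupp.map_apply] at this
    rw [this, AlgebraicCycle.mapCoeff, if_pos (by rfl), (hdeg z).2]
    simp
  · intro y hy
    rw [finsum_eq_if]
    split_ifs with hyz
    · rw [finsum_mem_eq_zero_of_forall_eq_zero (fun x hx => ?_), zero_mul]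
      have hxy : σ x = y := hx
      refine absurd ?_ hy
      rw [← hxy] at hyz ⊢
      have hxz : π (σ x) = z := hyz
      rw [hpt] at hxz
      rw [hxz]
    · rfl

theorem normSubgroup_eq_top_of_section (k : Type u) [Field k] (K : Type u) [Field K] [Algebra k K]
    (F : IntermediateField k K) [FiniteDimensional k F] (hF : F ≠ ⊥)
    (X : Scheme.{u}) [X.Over (Spec (CommRingCat.of k))] (σ : X ⟶ Curv2.bc k X F)
    (hσ : σ ≫ Curv2.bcFst k X F = 𝟙 X) (δ : X → ℤ) (j : ℤ) :
    QsChow.normSubgroup k K X δ j = ⊤ := by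
  haveI : QuasiCompact (σ ≫ Curv2.bcFst k X F) := by rw [hσ]; infer_instance
  haveI : QuasiCompact σ := QuasiCompact.of_comp σ (Curv2.bcFst k X F)
  rw [eq_top_iff]
  intro c _
  induction c using QuotientAddGroup.induction_on with
  | H a =>
    obtain ⟨α, hα⟩ := a
    refine AddSubgroup.subset_closure ⟨F, inferInstance, hF,
      AlgebraicCycle.map σ δ (δ ∘ ⇑(Curv2.bcFst k X F).base) α, ?_, ?_, ?_⟩
    · intro y hy
      simp only [AlgebraicCycle.map, Function.locallyFinsupp.map_apply]
      refine finsum_mem_of_eqOn_zero fun x hx => ?_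
      have hxy : σ x = y := hx
      have : δ x ≠ j := by
        intro hxj; apply hy
        rw [← hxy, Function.comp_apply, ← Scheme.Hom.comp_apply, hσ]; exact hxj
      simp [hα x this]
    · rw [map_map_of_comp_eq_id σ _ hσ δ α]; exact hα
    · have := map_map_of_comp_eq_id σ _ hσ δ α
      simp only [this]
      rfl

end Groth.Agent.QsChowLib
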